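import Groth.Agent.EtFiltr5.Stalks
import Groth.Agent.EtFound.FLCTorsor
import Groth.Agent.EtFound.JContGen
import Groth.Agent.DepthPt5.Main
import Mathlib.Data.ZMod.Basic
import Mathlib.AlgebraicGeometry.Morphisms.FlatMono

/-! the cover of nonzero sections -/

set_option autoImplicit false
set_option linter.unusedSectionVars false
set_option linter.style.haveILetI false
set_option backward.isDefEq.respectTransparency false
set_option backward.isDefEq.respectTransparency.types false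

universe u

open CategoryTheory CategoryTheory.Limits AlgebraicGeometry Opposite

noncomputable section

namespace Groth.Agent.EtFiltr5

open Groth.Agent.EtFound

attribute [local instance] EtFound.pull_preservesFiniteLimits

variable {X : Scheme.{u}}

/-- a section killed by `ℓ` with nowhere vanishing germs gives a monomorphism from `ℤ/ℓ` -/
theorem exists_mono_of_section {F : EtCoh.Ab X} (ℓ : ℕ) [Fact ℓ.Prime] (s : F.obj.obj (op (EtCoh.top X)))
    (hk : ℓ • s = 0)
    (hs : ∀ (Ω : Type u) [Field Ω] [IsSepClosed Ω] (ξ : Spec (CommRingCat.of Ω) ⟶ X)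
      (z : (Scheme.pointSmallEtale ξ).fiber.obj (EtCoh.top X)),
        (Scheme.pointSmallEtale ξ).toPresheafFiber (EtCoh.top X) z F.obj s ≠ 0) :
    ∃ m : EtCoh.const X (ZMod ℓ) ⟶ F, Mono m := by
  let a : ZMod ℓ →+ F.obj.obj (op (EtCoh.top X)) :=
    ZMod.lift ℓ ⟨zmultiplesHom _ s, by
      show ((ℓ : ℤ) • s) = 0
      rw [natCast_zsmul, hk]⟩
  let φ : AddCommGrpCat.of (ULift.{u + 1} (ZMod ℓ)) ⟶ (EtCore.gsec X).obj F :=
    AddCommGrpCat.ofHom (a.comp AddEquiv.ulift.toAddMonoidHom)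
  let m : EtCoh.const X (ZMod ℓ) ⟶ F := ((EtCore.constAdj X).homEquiv _ _).symm φ
  let c := (EtCore.constAdj X).unit.app (AddCommGrpCat.of (ULift.{u + 1} (ZMod ℓ)))
  have hc : c ≫ (EtCore.gsec X).map m = φ :=
    ((EtCore.constAdj X).homEquiv_unit _ _ _).symm.trans (Equiv.apply_symm_apply _ _)
  refine ⟨m, (mono_iff_stalks m).2 fun Ω _ _ ξ => ?_⟩
  let z : (Scheme.pointSmallEtale ξ).fiber.obj (EtCoh.top X) := CategoryTheory.Over.homMk ξ (Category.comp_id _)
  have hb : Function.Bijective fun n => (Scheme.pointSmallEtale ξ).toPresheafFiber (EtCoh.top X) z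
      (EtCoh.const X (ZMod ℓ)).obj (c n) :=
    toSheafify_const_germ_bijective ξ AddCommGrpCat.{u + 1} (AddCommGrpCat.of (ULift.{u + 1} (ZMod ℓ))) (EtCoh.top X) z
  refine (injective_iff_map_eq_zero _).2 fun t ht => ?_
  obtain ⟨⟨n⟩, rfl⟩ := hb.2 t
  have h1 : (Scheme.pointSmallEtale ξ).toPresheafFiber (EtCoh.top X) z F.obj (φ ⟨n⟩) = 0 := by
    rw [← hc]
    exact ((Scheme.pointSmallEtale ξ).toPresheafFiber_naturality_apply m.hom _ _ _).symm.trans ht
  suffices n = 0 by
    subst this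
    show (Scheme.pointSmallEtale ξ).toPresheafFiber (EtCoh.top X) z (EtCoh.const X (ZMod ℓ)).obj (c 0) = 0
    rw [map_zero, map_zero]
  by_contra hn
  obtain ⟨i, hi⟩ : ∃ i : ℕ, i • n = 1 := ⟨(n⁻¹).val, by rw [nsmul_eq_mul, ZMod.natCast_zmod_val, inv_mul_cancel₀ hn]⟩
  have h2 : i • φ ⟨n⟩ = s := by
    show i • a n = s
    rw [← map_nsmul, hi]
    simpa using (ZMod.lift_coe ℓ _ (1 : ℤ)).trans (one_zsmul s)
  refine hs Ω ξ z ?_
  rw [← h2, map_nsmul, h1, smul_zero]

theorem exists_step {F : EtCoh.Ab X} (hF : EtCoh.IsFiniteLocallyConstant F) (ℓ : ℕ) [Fact ℓ.Prime]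
    (hk : ℓ • 𝟙 F = 0) (r : ℕ) (hr : IsRk F (ℓ ^ (r + 1))) :
    ∃ (T : Scheme.{u}) (f : T ⟶ X) (_ : IsFinite f) (_ : AlgebraicGeometry.Etale f),
      (∀ (Ω : Type u) [Field Ω] [IsAlgClosed Ω] (η : Spec (CommRingCat.of Ω) ⟶ X),
        Nat.card {t : Spec (CommRingCat.of Ω) ⟶ T // t ≫ f = η} = ℓ ^ (r + 1) - 1) ∧
      ∃ (Q : EtCoh.Ab T) (m : EtCoh.const T (ZMod ℓ) ⟶ (EtCoh.pull f).obj F) (p : (EtCoh.pull f).obj F ⟶ Q)
        (w : m ≫ p = 0), (ShortComplex.mk m p w).ShortExact ∧ EtCoh.IsFiniteLocallyConstant Q ∧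
          ℓ • 𝟙 Q = 0 ∧ IsRk Q (ℓ ^ r) := by
  have hℓ : ℓ.Prime := Fact.out
  obtain ⟨U, σ, hfin, hσ⟩ := FLCRep.exists_rep hF
  haveI := hfin
  haveI hUe : AlgebraicGeometry.Etale U.hom := U.prop
  obtain ⟨z₀, hz₀⟩ := (hσ (EtCoh.top X)).2 0
  have hz₀w : z₀.left ≫ U.hom = 𝟙 X := MorphismProperty.Over.w z₀
  haveI : AlgebraicGeometry.Etale z₀.left := etale_left z₀
  let zl : X ⟶ U.left := z₀.left
  have hzl : zl ≫ U.hom = 𝟙 X := hz₀w
  haveI : IsSplitMono zl := IsSplitMono.mk' ⟨U.hom, hzl⟩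
  haveI : Mono z₀.left := inferInstanceAs (Mono zl)
  haveI : IsOpenImmersion z₀.left := IsOpenImmersion.of_flat_of_mono z₀.left
  haveI : IsClosedImmersion (z₀.left ≫ U.hom) := by
    rw [hz₀w]
    exact inferInstanceAs (IsClosedImmersion (𝟙 X))
  haveI : IsClosedImmersion z₀.left := IsClosedImmersion.of_comp z₀.left U.hom
  let V : U.left.Opens := ⟨(Set.range z₀.left.base)ᶜ, z₀.left.isClosedEmbedding.isClosed_range.isOpen_compl⟩
  haveI : IsClosedImmersion V.ι := IsClosedImmersion.of_isPreimmersion _ (by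
    rw [Scheme.Opens.range_ι]
    exact z₀.left.isOpenEmbedding.isOpen_range.isClosed_compl)
  let f : (V : Scheme.{u}) ⟶ X := V.ι ≫ U.hom
  haveI hfe : AlgebraicGeometry.Etale f := inferInstanceAs (AlgebraicGeometry.Etale (V.ι ≫ U.hom))
  haveI hff : IsFinite f := inferInstanceAs (IsFinite (V.ι ≫ U.hom))
  let θ : ∀ {Ω : Type u} [Field Ω] [IsSepClosed Ω] (ξ : Spec (CommRingCat.of Ω) ⟶ X),
      (Scheme.pointSmallEtale ξ).fiber.obj U → (EtCoh.stalk ξ).obj F :=
    fun ξ z => (Scheme.pointSmallEtale ξ).toPresheafFiber U z F.obj σ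
  have key : ∀ {Ω : Type u} [Field Ω] [IsSepClosed Ω] (ξ : Spec (CommRingCat.of Ω) ⟶ X)
      (z : (Scheme.pointSmallEtale ξ).fiber.obj U), ptOf z ∈ V ↔ θ ξ z ≠ 0 := by
    intro Ω _ _ ξ z
    let zt : (Scheme.pointSmallEtale ξ).fiber.obj (EtCoh.top X) := CategoryTheory.Over.homMk ξ (Category.comp_id _)
    have h0 : θ ξ ((Scheme.pointSmallEtale ξ).fiber.map z₀ zt) = 0 := by
      show (Scheme.pointSmallEtale ξ).toPresheafFiber U _ F.obj σ = 0
      rw [← (Scheme.pointSmallEtale ξ).toPresheafFiber_w_apply]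
      exact (congrArg _ hz₀).trans (map_zero _)
    show ptOf z ∈ (Set.range z₀.left.base)ᶜ ↔ _
    rw [Set.mem_compl_iff, not_iff_not]
    refine ⟨fun hmem => ?_, fun h => ?_⟩
    · have hsub : Set.range (z.left : Spec (CommRingCat.of Ω) ⟶ U.left).base ⊆ Set.range z₀.left.base := by
        rintro _ ⟨q, rfl⟩
        obtain rfl : q = (default : Spec (CommRingCat.of Ω)) :=
          Subsingleton.elim (α := Spec (CommRingCat.of Ω)) _ _
        exact hmem
      let w := IsOpenImmersion.lift z₀.left (z.left : Spec (CommRingCat.of Ω) ⟶ U.left) hsub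
      have hw : w ≫ z₀.left = z.left := IsOpenImmersion.lift_fac _ _ _
      have hwξ : w = ξ := by
        have := congrArg (· ≫ U.hom) hw
        simp only [Category.assoc, hz₀w, Category.comp_id] at this
        exact this.trans (Over.w z)
      have : z = (Scheme.pointSmallEtale ξ).fiber.map z₀ zt := Over.OverMorphism.ext (by
        rw [← hw, hwξ]; rfl)
      rw [this, h0]
    · have := (germ_bijective hσ ξ).1 (h.trans h0.symm)
      rw [this, ptOf_map]
      exact ⟨_, rfl⟩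
  refine ⟨V, f, hff, hfe, fun Ω _ _ η => ?_, ?_⟩
  · haveI := finite_stalk hF η
    have e : {t : Spec (CommRingCat.of Ω) ⟶ (V : Scheme.{u}) // t ≫ f = η} ≃
        {z : (Scheme.pointSmallEtale η).fiber.obj U // θ η z ≠ 0} :=
      { toFun := fun t => ⟨CategoryTheory.Over.homMk (t.1 ≫ V.ι) ((Category.assoc _ _ _).trans t.2),
          (key η _).1 (t.1.base default).2⟩
        invFun := fun z => ⟨IsOpenImmersion.lift V.ι (z.1.left : Spec (CommRingCat.of Ω) ⟶ U.left) (by
            rintro _ ⟨q, rfl⟩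
            obtain rfl : q = (default : Spec (CommRingCat.of Ω)) :=
              Subsingleton.elim (α := Spec (CommRingCat.of Ω)) _ _
            rw [Scheme.Opens.range_ι]
            exact (key η z.1).2 z.2), by
          show _ ≫ V.ι ≫ U.hom = η
          rw [IsOpenImmersion.lift_fac_assoc]
          exact Over.w z.1⟩
        left_inv := fun t => Subtype.ext ((IsOpenImmersion.lift_uniq _ _ _ _ rfl).symm)
        right_inv := fun z => Subtype.ext (Over.OverMorphism.ext (IsOpenImmersion.lift_fac _ _ _)) }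
    let e' : {z : (Scheme.pointSmallEtale η).fiber.obj U // θ η z ≠ 0} ≃
        {t : (EtCoh.stalk η).obj F // t ≠ 0} :=
      (Equiv.ofBijective (θ η) (germ_bijective hσ η)).subtypeEquiv fun z => Iff.rfl
    rw [Nat.card_congr (e.trans e')]
    haveI := Fintype.ofFinite ((EtCoh.stalk η).obj F)
    classical
    rw [Nat.card_eq_fintype_card, Fintype.card_subtype_compl, Fintype.card_subtype_eq,
      ← Nat.card_eq_fintype_card, hr Ω η]
  · let T₁ : X.Etale := Scheme.Etale.mk f
    let i : T₁ ⟶ U := MorphismProperty.Over.homMk V.ι rfl trivial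
    let G := (EtCoh.pull f).obj F
    let Δ : EtCoh.top (V : Scheme.{u}) ⟶ (EtCoh.bc f).obj T₁ :=
      MorphismProperty.Over.homMk (pullback.lift (𝟙 _) (𝟙 _) rfl) (pullback.lift_snd _ _ _) trivial
    let s₁ : F.obj.obj (op T₁) := F.obj.map i.op σ
    let s : G.obj.obj (op (EtCoh.top (V : Scheme.{u}))) :=
      G.obj.map Δ.op (((EtCoh.pullPushAdj f).unit.app F).hom.app (op T₁) s₁)
    haveI := (EtCoh.pullPushAdj f).left_adjoint_additive
    have hkG : ℓ • 𝟙 G = 0 := by rw [← (EtCoh.pull f).map_id, ← Functor.map_nsmul, hk, Functor.map_zero]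
    obtain ⟨m, hm⟩ := exists_mono_of_section ℓ s (H9Transfer.nsmul_sect_eq_zero hkG _ s) (fun Ω _ _ ξ z hz => by
      change (Scheme.pointSmallEtale ξ).toPresheafFiber _ z G.obj (G.obj.map Δ.op _) = 0 at hz
      rw [(Scheme.pointSmallEtale ξ).toPresheafFiber_w_apply] at hz
      have h2 := (DepthPt5.germ_unit_eq_zero_iff f F s₁ _).1 hz
      rw [show s₁ = F.obj.map i.op σ from rfl, (Scheme.pointSmallEtale (ξ ≫ f)).toPresheafFiber_w_apply] at h2
      refine (key (ξ ≫ f) _).1 ?_ h2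
      rw [ptOf_map]
      exact Subtype.prop _)
    haveI := hm
    have hS : (ShortComplex.mk m (cokernel.π m) (cokernel.condition m)).ShortExact :=
      { exact := ShortComplex.exact_cokernel m
        mono_f := hm, epi_g := inferInstanceAs (Epi (cokernel.π m)) }
    refine ⟨cokernel m, m, cokernel.π m, cokernel.condition m, hS, ?_, ?_, ?_⟩
    · exact isFiniteLocallyConstant_of_cokernel hS.exact (FLCTorsor.isFiniteLocallyConstant_const (ZMod ℓ))
        (isFiniteLocallyConstant_pull f hF)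
    · rw [← cancel_epi (cokernel.π m), comp_zero, Preadditive.comp_nsmul, Category.comp_id,
        ← Category.id_comp (cokernel.π m), ← Preadditive.nsmul_comp, hkG, zero_comp]
    · refine isRk_of_shortExact hS (a := ℓ) hℓ.ne_zero (fun Ω _ _ ξ => ?_) ?_
      · exact ((isRk_const (V : Scheme.{u}) (ZMod ℓ)) Ω ξ).trans (Nat.card_zmod ℓ)
      · rw [← pow_succ']
        exact isRk_pull f hr

end Groth.Agent.EtFiltr5
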