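import Groth.Agent.EtFiltr5.Chain
import Groth.Agent.EtFiltr5.Cover

/-! filtration by constant sheaves after a finite etale prime-to-ℓ cover -/

set_option autoImplicit false
set_option linter.unusedSectionVars false
set_option linter.style.haveILetI false
set_option backward.isDefEq.respectTransparency false
set_option backward.isDefEq.respectTransparency.types false

universe u

open CategoryTheory CategoryTheory.Limits AlgebraicGeometry Opposite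

noncomputable section

namespace Groth.Agent.EtFiltr5

open Groth.Agent.EtFound

attribute [local instance] EtFound.pull_preservesFiniteLimits

theorem coprime_pred_pow (ℓ : ℕ) [Fact ℓ.Prime] (r : ℕ) : ℓ.Coprime (ℓ ^ (r + 1) - 1) := by
  have hℓ : ℓ.Prime := Fact.out
  refine hℓ.coprime_iff_not_dvd.2 fun h => hℓ.one_lt.ne' (Nat.dvd_one.1 ?_)
  have h1 : 1 ≤ ℓ ^ (r + 1) := Nat.one_le_pow _ _ hℓ.pos
  have := Nat.dvd_sub (dvd_pow_self ℓ r.succ_ne_zero) h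
  rwa [Nat.sub_sub_self h1] at this

theorem card_comp {T₂ T₁ X : Scheme.{u}} (f₂ : T₂ ⟶ T₁) (f₁ : T₁ ⟶ X) {A : Scheme.{u}} (η : A ⟶ X) (d₁ d₂ : ℕ)
    (hd₁ : d₁ ≠ 0) (hd₂ : d₂ ≠ 0) (h₁ : Nat.card {t : A ⟶ T₁ // t ≫ f₁ = η} = d₁)
    (h₂ : ∀ t₁ : A ⟶ T₁, Nat.card {t : A ⟶ T₂ // t ≫ f₂ = t₁} = d₂) :
    Nat.card {t : A ⟶ T₂ // t ≫ f₂ ≫ f₁ = η} = d₁ * d₂ := by
  haveI : Finite {t : A ⟶ T₁ // t ≫ f₁ = η} := Nat.finite_of_card_ne_zero (by rw [h₁]; exact hd₁)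
  haveI := Fintype.ofFinite {t : A ⟶ T₁ // t ≫ f₁ = η}
  haveI : ∀ t₁ : {t : A ⟶ T₁ // t ≫ f₁ = η}, Finite {t : A ⟶ T₂ // t ≫ f₂ = t₁.1} :=
    fun t₁ => Nat.finite_of_card_ne_zero (by rw [h₂]; exact hd₂)
  let e : {t : A ⟶ T₂ // t ≫ f₂ ≫ f₁ = η} ≃
      Σ t₁ : {t : A ⟶ T₁ // t ≫ f₁ = η}, {t : A ⟶ T₂ // t ≫ f₂ = t₁.1} :=
    { toFun := fun t => ⟨⟨t.1 ≫ f₂, (Category.assoc _ _ _).trans t.2⟩, ⟨t.1, rfl⟩⟩
      invFun := fun p => ⟨p.2.1, by rw [← Category.assoc, p.2.2, p.1.2]⟩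
      left_inv := fun t => rfl
      right_inv := fun p => Sigma.subtype_ext (Subtype.ext p.2.2) rfl }
  rw [Nat.card_congr e, Nat.card_sigma, Finset.sum_congr rfl (fun t₁ _ => h₂ t₁.1), Finset.sum_const, Finset.card_univ,
    smul_eq_mul, ← Nat.card_eq_fintype_card, h₁]

theorem exists_cover_chain (ℓ : ℕ) [Fact ℓ.Prime] : ∀ (r : ℕ) (X : Scheme.{u}) (F : EtCoh.Ab X),
    EtCoh.IsFiniteLocallyConstant F → ℓ • 𝟙 F = 0 → IsRk F (ℓ ^ r) →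
    ∃ (T : Scheme.{u}) (f : T ⟶ X) (_ : IsFinite f) (_ : AlgebraicGeometry.Etale f) (d : ℕ), ℓ.Coprime d ∧
      (∀ (Ω : Type u) [Field Ω] [IsAlgClosed Ω] (η : Spec (CommRingCat.of Ω) ⟶ X),
        Nat.card {t : Spec (CommRingCat.of Ω) ⟶ T // t ≫ f = η} = d) ∧
      Nonempty (ChainTo ((EtCoh.pull f).obj F) (EtCoh.const T (ZMod ℓ)))
  | 0, X, F, _, _, hr => by
    refine ⟨X, 𝟙 X, inferInstance, inferInstance, 1, Nat.coprime_one_right ℓ, fun Ω _ _ η => ?_,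
      ⟨ChainTo.ofIsZero _ (isZero_of_isRk_one (isRk_pull (𝟙 X) (by simpa using hr)))⟩⟩
    haveI : Unique {t : Spec (CommRingCat.of Ω) ⟶ X // t ≫ 𝟙 X = η} :=
      { default := ⟨η, Category.comp_id η⟩
        uniq := fun t => Subtype.ext ((Category.comp_id _).symm.trans t.2) }
    exact Nat.card_unique
  | r + 1, X, F, hF, hk, hr => by
    obtain ⟨T₁, f₁, _, _, hc₁, Q, m, p, w, hS, hQ, hQk, hQr⟩ := exists_step hF ℓ hk r hr
    obtain ⟨T₂, f₂, _, _, d₂, hd₂, hc₂, ⟨c⟩⟩ := exists_cover_chain ℓ r T₁ Q hQ hQk hQr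
    have hℓ : ℓ.Prime := Fact.out
    have hd₁ : ℓ ^ (r + 1) - 1 ≠ 0 := fun h => by
      have := coprime_pred_pow ℓ r
      rw [h, Nat.coprime_zero_right] at this
      exact hℓ.one_lt.ne' this
    have hd₂' : d₂ ≠ 0 := fun h => by
      rw [h, Nat.coprime_zero_right] at hd₂
      exact hℓ.one_lt.ne' hd₂
    refine ⟨T₂, f₂ ≫ f₁, inferInstance, inferInstance, (ℓ ^ (r + 1) - 1) * d₂,
      (coprime_pred_pow ℓ r).mul_right hd₂, fun Ω _ _ η =>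
        card_comp f₂ f₁ η _ _ hd₁ hd₂' (hc₁ Ω η) (hc₂ Ω), ⟨?_⟩⟩
    haveI := (EtCoh.pullPushAdj f₂).leftAdjoint_preservesColimits
    haveI : PreservesFiniteColimits (EtCoh.pull f₂) := inferInstance
    haveI := (EtCoh.pullPushAdj f₂).left_adjoint_additive
    have hS' := hS.map_of_exact (EtCoh.pull f₂)
    haveI : Epi ((EtCoh.pull f₂).map p) := hS'.epi_g
    let e : (EtCoh.pull f₂).obj (EtCoh.const T₁ (ZMod ℓ)) ≅ EtCoh.const T₂ (ZMod ℓ) := EtCore.pullConst f₂ (ZMod ℓ)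
    haveI : Mono (ShortComplex.map (ShortComplex.mk m p w) (EtCoh.pull f₂)).f := hS'.mono_f
    exact ((c.ofIso (Iso.refl _) e.symm).extend ((EtCoh.pull f₂).map p) ((EtCoh.pull f₂).map m) _
      hS'.exact.fIsKernel).ofIso ((EtCore.pullComp f₂ f₁).app F).symm e

theorem main (S : Scheme.{u}) [ConnectedSpace S] (ℓ : ℕ) [Fact ℓ.Prime]
    (F : EtCoh.Ab S) (hF : EtCoh.IsFiniteLocallyConstant F) (hℓ : EtCoh.KilledBy ℓ F) :
    ∃ (T : Scheme.{u}) (f : T ⟶ S) (_ : IsFinite f) (_ : AlgebraicGeometry.Etale f) (d : ℕ), ℓ.Coprime d ∧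
      (∀ (Ω : Type u) [Field Ω] [IsAlgClosed Ω] (η : Spec (CommRingCat.of Ω) ⟶ S),
        Nat.card {t : Spec (CommRingCat.of Ω) ⟶ T // t ≫ f = η} = d) ∧
      ∃ (n : ℕ) (G : ℕ → EtCoh.Ab T) (φ : ∀ i, G i ⟶ G (i + 1)),
        IsZero (G 0) ∧ Nonempty (G n ≅ (EtCoh.pull f).obj F) ∧
        ∀ i, i < n → Mono (φ i) ∧ Nonempty (cokernel (φ i) ≅ EtCoh.const T (ZMod ℓ)) := by
  obtain ⟨r, hr⟩ := exists_isRk hF ℓ (killed_of_killedBy hℓ)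
  obtain ⟨T, f, hf, hf', d, hd, hc, ⟨c⟩⟩ := exists_cover_chain ℓ r S F hF (killed_of_killedBy hℓ) hr
  haveI := c.top
  exact ⟨T, f, hf, hf', d, hd, hc, c.n, c.G, c.φ, c.zero, ⟨asIso (c.ι c.n)⟩,
    fun i hi => ⟨c.mono_φ i, c.coker i hi⟩⟩

end Groth.Agent.EtFiltr5
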