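import Mathlib.CategoryTheory.Abelian.Exact
import Mathlib.CategoryTheory.Limits.Preserves.Finite

/-! chains of subobjects with prescribed cokernels -/

set_option autoImplicit false
set_option backward.isDefEq.respectTransparency false
set_option backward.isDefEq.respectTransparency.types false

universe v v' u u'

open CategoryTheory CategoryTheory.Limits

noncomputable section

namespace Groth.Agent.EtFiltr5

variable {A : Type u} [Category.{v} A] [Abelian A]

/-- `X` has a chain of `n` steps with all successive cokernels isomorphic to `C` -/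
structure ChainTo (X C : A) where
  n : ℕ
  G : ℕ → A
  φ : ∀ i, G i ⟶ G (i + 1)
  ι : ∀ i, G i ⟶ X
  mono : ∀ i, Mono (ι i)
  comm : ∀ i, φ i ≫ ι (i + 1) = ι i
  zero : IsZero (G 0)
  top : IsIso (ι n)
  coker : ∀ i, i < n → Nonempty (cokernel (φ i) ≅ C)

theorem ChainTo.mono_φ {X C : A} (c : ChainTo X C) (i : ℕ) : Mono (c.φ i) :=
  haveI : Mono (c.φ i ≫ c.ι (i + 1)) := by rw [c.comm]; exact c.mono i
  mono_of_mono (c.φ i) (c.ι (i + 1))

/-- trivial chain -/
def ChainTo.ofIsZero {X : A} (C : A) (h : IsZero X) : ChainTo X C where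
  n := 0
  G _ := X
  φ _ := 𝟙 X
  ι _ := 𝟙 X
  mono _ := inferInstance
  comm _ := Category.comp_id _
  zero := h
  top := inferInstance
  coker i hi := absurd hi (Nat.not_lt_zero i)

/-- chains are transported by isomorphisms -/
def ChainTo.ofIso {X Y C D : A} (c : ChainTo X C) (e : X ≅ Y) (e' : C ≅ D) : ChainTo Y D where
  n := c.n
  G := c.G
  φ := c.φ
  ι i := c.ι i ≫ e.hom
  mono i := haveI := c.mono i; mono_comp _ _
  comm i := by rw [← Category.assoc, c.comm]
  zero := c.zero
  top := haveI := c.top; inferInstance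
  coker i hi := (c.coker i hi).map fun f => f ≪≫ e'

section extend

variable {X Q C : A} (p : X ⟶ Q) [Epi p] (c : ChainTo Q C)

/-- terms of the pulled back chain -/
def preG : ℕ → A
  | 0 => c.G 0
  | i + 1 => pullback p (c.ι i)

/-- inclusions of the pulled back chain -/
def preι : ∀ i, preG p c i ⟶ X
  | 0 => 0
  | i + 1 => pullback.fst p (c.ι i)

/-- maps of the pulled back chain -/
def preφ : ∀ i, preG p c i ⟶ preG p c (i + 1)
  | 0 => 0
  | i + 1 => pullback.lift (pullback.fst p (c.ι i)) (pullback.snd p (c.ι i) ≫ c.φ i)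
      (by rw [Category.assoc, c.comm, pullback.condition])

theorem nonempty_cokernel_preφ (i : ℕ) (hi : i < c.n) :
    Nonempty (cokernel (preφ p c (i + 1)) ≅ C) := by
  haveI := c.mono i
  haveI := c.mono (i + 1)
  haveI := c.mono_φ i
  obtain ⟨e⟩ := c.coker i hi
  let s := pullback.snd p (c.ι (i + 1))
  haveI : Epi s := Abelian.epi_pullback_of_epi_f p _
  let q : preG p c (i + 2) ⟶ cokernel (c.φ i) := s ≫ cokernel.π (c.φ i)
  haveI : Epi q := epi_comp _ _
  have w : preφ p c (i + 1) ≫ q = 0 := by
    show pullback.lift _ _ _ ≫ s ≫ _ = 0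
    rw [pullback.lift_snd_assoc, Category.assoc, cokernel.condition, comp_zero]
  haveI : Mono (preφ p c (i + 1)) := by
    haveI : Mono (preφ p c (i + 1) ≫ pullback.fst p (c.ι (i + 1))) := by
      show Mono (pullback.lift _ _ _ ≫ _)
      rw [pullback.lift_fst]
      exact pullback.fst_of_mono
    exact mono_of_mono _ (pullback.fst p (c.ι (i + 1)))
  have hk : IsLimit (KernelFork.ofι (preφ p c (i + 1)) w) := by
    refine KernelFork.IsLimit.ofι' _ _ fun {W} k hk => ?_
    have hk' : (k ≫ s) ≫ cokernel.π (c.φ i) = 0 := (Category.assoc _ _ _).trans hk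
    let y := Abelian.monoLift (c.φ i) (k ≫ s) hk'
    have hy : y ≫ c.φ i = k ≫ s := Abelian.monoLift_comp _ _ _
    refine ⟨pullback.lift (k ≫ pullback.fst p (c.ι (i + 1))) y ?_, ?_⟩
    · rw [← c.comm i, reassoc_of% hy, Category.assoc, pullback.condition]
    · refine pullback.hom_ext ?_ ?_
      · show (_ ≫ pullback.lift _ _ _) ≫ _ = _
        rw [Category.assoc, pullback.lift_fst, pullback.lift_fst]
      · show (_ ≫ pullback.lift _ _ _) ≫ _ = _
        rw [Category.assoc, pullback.lift_snd, pullback.lift_snd_assoc, hy]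
  exact ⟨(cokernelIsCokernel (preφ p c (i + 1))).coconePointUniqueUpToIso
    (Abelian.epiIsCokernelOfKernel _ hk) ≪≫ e⟩

/-- extend a chain of `Q` to `X` when the kernel of `X ↠ Q` is `C` -/
def ChainTo.extend (k : C ⟶ X) (w : k ≫ p = 0) (hk : IsLimit (KernelFork.ofι k w)) : ChainTo X C where
  n := c.n + 1
  G := preG p c
  φ := preφ p c
  ι := preι p c
  mono
    | 0 => ⟨fun a b _ => c.zero.eq_of_tgt a b⟩
    | i + 1 => haveI := c.mono i; pullback.fst_of_mono
  comm
    | 0 => zero_comp
    | i + 1 => pullback.lift_fst _ _ _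
  zero := c.zero
  top := haveI := c.top; inferInstanceAs (IsIso (pullback.fst p (c.ι c.n)))
  coker
    | 0, _ => by
      let e : C ≅ pullback p (c.ι 0) :=
        { hom := pullback.lift k 0 (by rw [w, zero_comp])
          inv := hk.lift (KernelFork.ofι (pullback.fst p (c.ι 0)) (by
            rw [pullback.condition, c.zero.eq_of_src (c.ι 0) 0, comp_zero]))
          hom_inv_id := Fork.IsLimit.hom_ext hk (by
            rw [Category.assoc, Fork.IsLimit.lift_ι hk]
            exact (pullback.lift_fst _ _ _).trans (Category.id_comp _).symm)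
          inv_hom_id := pullback.hom_ext (by
            rw [Category.assoc, pullback.lift_fst, Category.id_comp]
            exact Fork.IsLimit.lift_ι hk) (c.zero.eq_of_tgt _ _) }
      exact ⟨cokernelZeroIsoTarget ≪≫ e.symm⟩
    | i + 1, hi => nonempty_cokernel_preφ p c i (Nat.lt_of_succ_lt_succ hi)

end extend

end Groth.Agent.EtFiltr5
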