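import Groth.Agent.EtFound.StalkSet
import Groth.Agent.EtFound.ConstStalk
import Groth.Agent.EtFound.FLCRepr
import Groth.Agent.H9Transfer.Kill
import Mathlib.Algebra.Module.ZMod
import Mathlib.FieldTheory.Finite.Basic

/-! stalks of finite locally constant sheaves killed by a prime -/

set_option autoImplicit false
set_option linter.unusedSectionVars false
set_option linter.style.haveILetI false
set_option backward.isDefEq.respectTransparency false
set_option backward.isDefEq.respectTransparency.types false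

universe u

open CategoryTheory CategoryTheory.Limits AlgebraicGeometry Opposite

noncomputable section

namespace Groth.Agent.EtFiltr5

open Groth.Agent.EtFound

variable {X : Scheme.{u}}

/-- all geometric stalks have cardinality `c` -/
def IsRk (F : EtCoh.Ab X) (c : ℕ) : Prop :=
  ∀ (Ω : Type u) [Field Ω] [IsSepClosed Ω] (ξ : Spec (CommRingCat.of Ω) ⟶ X), Nat.card ((EtCoh.stalk ξ).obj F) = c

theorem killed_of_killedBy {F : EtCoh.Ab X} {n : ℕ} (h : EtCoh.KilledBy n F) : n • 𝟙 F = 0 := by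
  have e : ∀ (a : ℕ) (U : X.Etale) (s : EtCoh.sect F U), (a • 𝟙 F : F ⟶ F).hom.app (op U) s = a • s := fun a U s => by
    induction a with
    | zero => simp
    | succ a ih => simp [add_nsmul, ← ih]
  refine Sheaf.hom_ext (NatTrans.ext (funext fun V => AddCommGrpCat.hom_ext (AddMonoidHom.ext fun s => ?_)))
  exact (e n V.unop s).trans (h V.unop s)

theorem nsmul_stalk_eq_zero {F : EtCoh.Ab X} {n : ℕ} (h : n • 𝟙 F = 0) {Ω : Type u} [Field Ω] [IsSepClosed Ω]
    (ξ : Spec (CommRingCat.of Ω) ⟶ X) (t : (EtCoh.stalk ξ).obj F) : n • t = 0 := by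
  obtain ⟨U, z, s, rfl⟩ := (Scheme.pointSmallEtale ξ).toPresheafFiber_jointly_surjective (P := F.obj) t
  exact ((map_nsmul _ _ _).symm).trans ((congrArg _ (H9Transfer.nsmul_sect_eq_zero h U s)).trans (map_zero _))

theorem finite_stalk {F : EtCoh.Ab X} (hF : EtCoh.IsFiniteLocallyConstant F) {Ω : Type u} [Field Ω] [IsSepClosed Ω]
    (ξ : Spec (CommRingCat.of Ω) ⟶ X) : Finite ((EtCoh.stalk ξ).obj F) := by
  obtain ⟨U, p, hp, S, hS⟩ := (isFiniteLocallyConstant_iff F).1 hF (ξ.base default)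
  obtain ⟨k, _, _, ζ, z, hz⟩ := exists_algClosed_point U p
  obtain ⟨e⟩ := nonempty_stalk_equiv F ζ ξ ((base_of_point z).symm.trans ((congrArg U.hom.base hz).trans hp))
  haveI := hS.1
  haveI : Finite ((EtCoh.stalk ζ).obj F) := Finite.of_surjective _ (hS.2 k ζ z).2
  exact Finite.of_equiv _ e

theorem exists_isRk [ConnectedSpace X] {F : EtCoh.Ab X} (hF : EtCoh.IsFiniteLocallyConstant F) (ℓ : ℕ)
    [Fact ℓ.Prime] (hk : ℓ • 𝟙 F = 0) : ∃ r : ℕ, IsRk F (ℓ ^ r) := by
  obtain ⟨x⟩ := (inferInstance : Nonempty X)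
  obtain ⟨k, _, _, ζ, hζ⟩ := exists_geomPoint x
  haveI := finite_stalk hF ζ
  letI : Module (ZMod ℓ) ((EtCoh.stalk ζ).obj F) := AddCommGroup.zmodModule fun t => nsmul_stalk_eq_zero hk ζ t
  haveI : Module.Finite (ZMod ℓ) ((EtCoh.stalk ζ).obj F) := Module.Finite.of_finite
  let r := Module.finrank (ZMod ℓ) ((EtCoh.stalk ζ).obj F)
  refine ⟨r, fun Ω _ _ ξ => ?_⟩
  let P : Type (u + 1) → Prop := fun A => Nat.card A = ℓ ^ r
  have hP : ∀ A B, Nonempty (A ≃ B) → P A → P B := fun A B ⟨e⟩ h => (Nat.card_congr e).symm.trans h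
  have hnP : ∀ A B, Nonempty (A ≃ B) → ¬ P A → ¬ P B := fun A B e h h' => h (hP B A (e.map Equiv.symm) h')
  have hopen := isOpen_stalkSet hF hP
  have hclosed : IsClosed (stalkSet F P) := by
    rw [← isOpen_compl_iff, compl_stalkSet hP]
    exact isOpen_stalkSet hF hnP
  have hmem : ζ.base default ∈ stalkSet F P := (mem_stalkSet_iff hP ζ).2 (by
    show Nat.card _ = _
    rw [Module.natCard_eq_pow_finrank (K := ZMod ℓ), Nat.card_zmod])
  have huniv := IsClopen.eq_univ ⟨hclosed, hopen⟩ ⟨_, hmem⟩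
  exact (mem_stalkSet_iff hP ξ).1 (by rw [huniv]; trivial)

theorem isRk_const (X : Scheme.{u}) (M : Type) [AddCommGroup M] : IsRk (EtCoh.const X M) (Nat.card M) :=
  fun Ω _ _ ξ => by
    let z : (Scheme.pointSmallEtale ξ).fiber.obj (EtCoh.top X) := CategoryTheory.Over.homMk ξ (Category.comp_id _)
    have hb := toSheafify_const_germ_bijective ξ AddCommGrpCat.{u + 1} (AddCommGrpCat.of (ULift.{u + 1} M)) (EtCoh.top X) z
    exact ((Nat.card_congr (Equiv.ofBijective _ hb)).symm).trans (Nat.card_congr Equiv.ulift)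

theorem card_of_shortExact {S : ShortComplex AddCommGrpCat.{u + 1}} (hS : S.ShortExact) :
    Nat.card S.X₂ = Nat.card S.X₁ * Nat.card S.X₃ := by
  have hf : Function.Injective S.f := (AddCommGrpCat.mono_iff_injective _).1 hS.mono_f
  have hg : Function.Surjective S.g := (AddCommGrpCat.epi_iff_surjective _).1 hS.epi_g
  have he := (ShortComplex.ab_exact_iff_function_exact S).1 hS.exact
  have e := AddSubgroup.card_eq_card_quotient_mul_card_addSubgroup S.g.hom.ker
  rw [e, Nat.card_congr (QuotientAddGroup.quotientKerEquivOfSurjective S.g.hom hg).toEquiv, mul_comm]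
  congr 1
  refine (Nat.card_congr (Equiv.ofBijective (fun a : S.X₁ => (⟨S.f a, ?_⟩ : S.g.hom.ker)) ⟨?_, ?_⟩)).symm
  · exact (he _).2 ⟨a, rfl⟩
  · exact fun a b h => hf (congrArg Subtype.val h)
  · rintro ⟨b, hb⟩
    obtain ⟨a, ha⟩ := (he b).1 hb
    exact ⟨a, Subtype.ext ha⟩

theorem isRk_of_shortExact {S : ShortComplex (EtCoh.Ab X)} (hS : S.ShortExact) {a c : ℕ} (ha : a ≠ 0)
    (h₁ : IsRk S.X₁ a) (h₂ : IsRk S.X₂ (a * c)) : IsRk S.X₃ c := fun Ω _ _ ξ => by
  have e := card_of_shortExact (hS.map_of_exact (EtCoh.stalk ξ))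
  rw [ShortComplex.map_X₁, ShortComplex.map_X₂, ShortComplex.map_X₃, h₁, h₂] at e
  exact (Nat.eq_of_mul_eq_mul_left (Nat.pos_of_ne_zero ha) e).symm

theorem isRk_pull {Y : Scheme.{u}} (g : Y ⟶ X) {F : EtCoh.Ab X} {c : ℕ} (h : IsRk F c) :
    IsRk ((EtCoh.pull g).obj F) c := fun Ω _ _ ξ =>
  (Nat.card_congr ((stalkPullIso g ξ).app F).addCommGroupIsoToAddEquiv.toEquiv).trans (h Ω (ξ ≫ g))

theorem isZero_of_isRk_one {F : EtCoh.Ab X} (h : IsRk F 1) : IsZero F :=
  (isZero_iff_stalks F).2 fun Ω _ _ ξ => by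
    haveI := (Nat.card_eq_one_iff_unique.1 (h Ω ξ)).1
    exact AddCommGrpCat.isZero_of_subsingleton _

/-- for a representing pair, points of the scheme over a geometric point are the stalk -/
theorem germ_bijective {F : EtCoh.Ab X} {U : X.Etale} {σ : F.obj.obj (op U)}
    (hσ : ∀ T : X.Etale, Function.Bijective fun b : T ⟶ U => F.obj.map b.op σ) {Ω : Type u} [Field Ω] [IsSepClosed Ω]
    (ξ : Spec (CommRingCat.of Ω) ⟶ X) :
    Function.Bijective fun z : (Scheme.pointSmallEtale ξ).fiber.obj U =>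
      (Scheme.pointSmallEtale ξ).toPresheafFiber U z F.obj σ := by
  let Φ := Scheme.pointSmallEtale ξ
  refine ⟨fun z z' h => ?_, fun t => ?_⟩
  · let Z : Φ.fiber.Elements := Functor.elementsMk Φ.fiber U z
    let Z' : Φ.fiber.Elements := Functor.elementsMk Φ.fiber U z'
    let W : Φ.fiber.Elements := IsCofiltered.min Z Z'
    let g : W ⟶ Z := IsCofiltered.minToLeft Z Z'
    let g' : W ⟶ Z' := IsCofiltered.minToRight Z Z'
    have e : Φ.toPresheafFiber W.1 W.2 F.obj (F.obj.map g.1.op σ) = Φ.toPresheafFiber W.1 W.2 F.obj (F.obj.map g'.1.op σ) := by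
      rw [Φ.toPresheafFiber_w_apply, Φ.toPresheafFiber_w_apply, g.2, g'.2]
      exact h
    obtain ⟨Y, k, y, hy, hk⟩ := (Φ.toPresheafFiber_eq_iff' W.1 W.2 (F.obj.map g.1.op σ) (F.obj.map g'.1.op σ)).1 e
    have hk' : k ≫ g.1 = k ≫ g'.1 := (hσ Y).1 (by
      show F.obj.map (k ≫ g.1).op σ = F.obj.map (k ≫ g'.1).op σ
      simpa [op_comp] using hk)
    have h1 : Φ.fiber.map (k ≫ g.1) y = z := by rw [FunctorToTypes.map_comp_apply, hy]; exact g.2
    have h2 : Φ.fiber.map (k ≫ g'.1) y = z' := by rw [FunctorToTypes.map_comp_apply, hy]; exact g'.2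
    rw [← h1, ← h2, hk']
  · obtain ⟨T, w, s, rfl⟩ := Φ.toPresheafFiber_jointly_surjective (P := F.obj) t
    obtain ⟨b, hb⟩ := (hσ T).2 s
    refine ⟨Φ.fiber.map b w, ?_⟩
    show Φ.toPresheafFiber U (Φ.fiber.map b w) F.obj σ = _
    rw [← Φ.toPresheafFiber_w_apply]
    exact congrArg _ hb

end Groth.Agent.EtFiltr5
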